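import Mathlib
import Cfsg.Agent.Lib.BG3.RepBasic
import Cfsg.Agent.Lib.BG3.Count

/-!
The core of BG Theorem 2.5.  A group `P` of class two acts on `V` through `σ`, an operator `b` of
order dividing `h` normalises `σ(P)` inducing the automorphism `φ`, and the pair acts irreducibly.
-/

set_option autoImplicit false

namespace H46

open Module
open scoped commutatorElement

section Avg

variable {k V P : Type*} [Field k] [AddCommGroup V] [Module k V] [Group P] [Fintype P]

/-- The sum of the conjugates of `T` under `σ`. -/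
noncomputable def avg (σ : Representation k P V) : End k V →ₗ[k] End k V :=
  ∑ y, LinearMap.mulLeftRight k (σ y, σ y⁻¹)

theorem avg_apply (σ : Representation k P V) (T : End k V) :
    avg σ T = ∑ y, σ y * T * σ y⁻¹ := by
  simp [avg, LinearMap.sum_apply]

theorem avg_comm (σ : Representation k P V) (T : End k V) (g : P) :
    σ g * avg σ T = avg σ T * σ g := by
  rw [avg_apply, Finset.mul_sum, Finset.sum_mul]
  refine Fintype.sum_equiv (Equiv.mulLeft g) _ _ fun y => ?_
  simp only [Equiv.coe_mulLeft, map_mul, mul_inv_rev, mul_assoc]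
  rw [← map_mul σ g⁻¹ g]; simp

theorem avg_of_comm (σ : Representation k P V) (T : End k V) (hT : ∀ y, σ y * T = T * σ y) :
    avg σ T = (Fintype.card P : k) • T := by
  rw [avg_apply]
  have : ∀ y, σ y * T * σ y⁻¹ = T := fun y => by
    rw [hT, mul_assoc, ← map_mul]; simp
  simp [this, Nat.cast_smul_eq_nsmul]

theorem avg_eq_zero (σ : Representation k P V) (w y₀ : P) (c : k) (hc : c ≠ 1)
    (h : σ ⁅y₀, w⁆ = c • (1 : End k V)) : avg σ (σ w) = 0 := by
  have h1 : σ y₀ * σ w * σ y₀⁻¹ = c • σ w := by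
    have : y₀ * w * y₀⁻¹ = ⁅y₀, w⁆ * w := by simp [commutatorElement_def]
    rw [← map_mul, ← map_mul, this, map_mul, h]; simp
  have h2 : avg σ (σ w) = c • avg σ (σ w) := by
    rw [← map_smul, ← h1, avg_apply, avg_apply]
    refine (Fintype.sum_equiv (Equiv.mulRight y₀) _ _ fun y => ?_).symm
    simp [mul_assoc]
  have h3 : (1 - c) • avg σ (σ w) = 0 := by rw [sub_smul, one_smul, ← h2, sub_self]
  exact (smul_eq_zero.1 h3).resolve_left (sub_ne_zero.2 hc.symm)

end Avg

/-- Number of pairs of eigenvectors with equal eigenvalue. -/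
theorem card_pairs_eq {ι Λ : Type*} [Fintype ι] [DecidableEq Λ] (d : ι → Λ) (s : Finset Λ)
    (hs : ∀ i, d i ∈ s) :
    Fintype.card {p : ι × ι // d p.1 = d p.2} =
      ∑ μ ∈ s, (Finset.univ.filter fun i => d i = μ).card ^ 2 := by
  classical
  rw [Fintype.card_subtype, Finset.card_eq_sum_card_fiberwise (f := fun p : ι × ι => d p.1)
    (t := s) (fun p _ => hs p.1)]
  refine Finset.sum_congr rfl fun μ _ => ?_
  rw [sq, ← Finset.card_product]
  congr 1
  ext ⟨i, j⟩
  simp only [Finset.mem_filter, Finset.mem_univ, true_and, Finset.mem_product]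
  constructor
  · rintro ⟨h1, h2⟩; exact ⟨h2, h1 ▸ h2⟩
  · rintro ⟨h1, h2⟩; exact ⟨h1.trans h2.symm, h1⟩

theorem core25 {k V P : Type*} [Field k] [IsAlgClosed k] [AddCommGroup V] [Module k V]
    [FiniteDimensional k V] [Nontrivial V] [Group P] [Finite P]
    (σ : Representation k P V) (b : End k V) (φ : MulAut P) (h : ℕ) (hh : 1 < h)
    (hk : (h : k) ≠ 0) (hP : (Nat.card P : k) ≠ 0) (hcop : Nat.Coprime h (Nat.card P))
    (hb : b ^ h = 1) (hbσ : ∀ g, b * σ g = σ (φ g) * b)
    (hS : ∀ W : Submodule k V, (∀ g, ∀ v ∈ W, σ g v ∈ W) → (∀ v ∈ W, b v ∈ W) → W = ⊥ ∨ W = ⊤)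
    (Z : Subgroup P) (hZ1 : ∀ z ∈ Z, ∃ c : k, σ z = c • (1 : End k V))
    (hZ2 : ∀ g y : P, ⁅g, y⁆ ∈ Z) (hZ3 : ∀ g, g ∉ Z → ∃ y : P, σ ⁅y, g⁆ ≠ 1)
    (hZ4 : ∀ i, 0 < i → i < h → ∀ g, (φ ^ i) g * g⁻¹ ∈ Z → g ∈ Z) :
    finrank k V ^ 2 = Z.index ∧ (h ∣ finrank k V + 1 ∨ h ∣ finrank k V - 1) ∧
      ((∀ v, b v = v → v = 0) → h = finrank k V + 1 ∨ finrank k V = 1) := by
  classical
  let _ := Fintype.ofFinite P
  have hZn : Z.Normal := ⟨fun z hz g => by
    have : g * z * g⁻¹ = ⁅g, z⁆ * z := by simp [commutatorElement_def]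
    rw [this]; exact Z.mul_mem (hZ2 g z) hz⟩
  have hP' : (Fintype.card P : k) ≠ 0 := by rwa [← Nat.card_eq_fintype_card]
  have hZk : (Nat.card Z : k) ≠ 0 := by
    intro h0
    apply hP
    rw [← Z.card_mul_index, Nat.cast_mul, h0, zero_mul]
  have hZc : ∀ z ∈ Z, ∀ T : End k V, σ z * T = T * σ z := by
    intro z hz T
    obtain ⟨c, hc⟩ := hZ1 z hz
    rw [hc]; simp
  have hA0 : ∀ w, w ∉ Z → avg σ (σ w) = 0 := by
    intro w hw
    obtain ⟨y, hy⟩ := hZ3 w hw
    obtain ⟨c, hc⟩ := hZ1 _ (hZ2 y w)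
    refine avg_eq_zero σ w y c ?_ hc
    rintro rfl
    exact hy (by simpa using hc)
  have hA1 : ∀ w ∈ Z, avg σ (σ w) = (Fintype.card P : k) • σ w :=
    fun w hw => avg_of_comm σ _ fun y => (hZc w hw _).symm
  set b' : End k V := b ^ (h - 1) with hb'
  have hbb' : b * b' = 1 := by rw [hb', ← pow_succ', Nat.sub_add_cancel hh.le, hb]
  have hb'b : b' * b = 1 := by rw [hb', ← pow_succ, Nat.sub_add_cancel hh.le, hb]
  have hconj : ∀ g, b * σ g * b' = σ (φ g) := fun g => by rw [hbσ, mul_assoc, hbb', mul_one]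
  have hφZ : ∀ z ∈ Z, σ (φ z) = σ z := fun z hz => by
    rw [← hconj, ← hZc z hz, mul_assoc, hbb', mul_one]
  have hφZ' : ∀ z ∈ Z, φ z ∈ Z := by
    intro z hz
    by_contra hc
    obtain ⟨y, hy⟩ := hZ3 _ hc
    apply hy
    rw [commutatorElement_def, map_mul, map_mul, map_mul, ← map_inv φ, hφZ z hz,
      hφZ _ (Z.inv_mem hz), ← hZc z hz, mul_assoc (σ z), ← map_mul, mul_inv_cancel, map_one,
      mul_one, ← map_mul, mul_inv_cancel, map_one]
  have hZmap : Z.map (φ : P →* P) = Z := by
    apply Subgroup.eq_of_le_of_card_ge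
    · rintro _ ⟨z, hz, rfl⟩; exact hφZ' z hz
    · rw [Subgroup.card_map_of_injective φ.injective]
  have hsumZ : ∀ T : End k V, ∑ g : P, (if g ∈ Z then T else 0) = (Nat.card Z : k) • T := by
    intro T
    rw [← Finset.sum_filter, Finset.sum_const, Nat.cast_smul_eq_nsmul, Nat.card_eq_fintype_card,
      Fintype.card_subtype]
  -- the element of the span of `σ P` inducing `φ`
  set a : End k V := ∑ g, σ (φ g * g⁻¹) with ha
  have ha1 : ∀ y, a * σ y = σ (φ y) * a := by
    intro y
    rw [ha, Finset.sum_mul, Finset.mul_sum]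
    refine (Fintype.sum_equiv (Equiv.mulLeft y) _ _ fun g => ?_).symm
    simp only [Equiv.coe_mulLeft, ← map_mul]
    congr 1
    simp [mul_assoc]
  have ha2 : b * a = a * b := by
    rw [ha, Finset.sum_mul, Finset.mul_sum]
    refine Fintype.sum_equiv φ.toEquiv _ _ fun g => ?_
    rw [hbσ]; simp
  have ha0 : a ≠ 0 := by
    intro h0
    have h1 : avg σ a = (Nat.card Z : k) • (Fintype.card P : k) • (1 : End k V) := by
      rw [ha, map_sum, ← hsumZ]
      refine Finset.sum_congr rfl fun g _ => ?_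
      split_ifs with hg
      · rw [hA1 _ (Z.mul_mem (hφZ' g hg) (Z.inv_mem hg)), map_mul, hφZ g hg, ← map_mul]; simp
      · exact hA0 _ fun hc => hg (hZ4 1 one_pos hh g (by simpa using hc))
    rw [h0, map_zero, smul_smul] at h1
    rcases smul_eq_zero.1 h1.symm with h2 | h2
    · exact mul_ne_zero hZk hP' h2
    · exact one_ne_zero h2
  have hau : IsUnit a := by
    rw [LinearMap.isUnit_iff_ker_eq_bot]
    refine (hS _ ?_ ?_).resolve_right fun h0 => ha0 (LinearMap.ker_eq_top.1 h0)
    · intro g v hv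
      rw [LinearMap.mem_ker] at hv ⊢
      rw [← End.mul_apply, ha1, End.mul_apply, hv, map_zero]
    · intro v hv
      rw [LinearMap.mem_ker] at hv ⊢
      rw [← End.mul_apply, ← ha2, End.mul_apply, hv, map_zero]
  have hS' : ∀ W : Submodule k V, (∀ T ∈ insert b (Set.range σ), ∀ v ∈ W, T v ∈ W) →
      W = ⊥ ∨ W = ⊤ := fun W hW =>
    hS W (fun g => hW _ (Set.mem_insert_of_mem _ ⟨g, rfl⟩)) (hW _ (Set.mem_insert _ _))
  obtain ⟨u, hu⟩ := hau
  obtain ⟨μ, hμ⟩ := scalar_of_commute _ hS' ((u⁻¹ : (End k V)ˣ) * b) (by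
    rintro T (rfl | ⟨y, rfl⟩)
    · have : T * (u⁻¹ : (End k V)ˣ) = (u⁻¹ : (End k V)ˣ) * T := by
        rw [Units.mul_inv_eq_iff_eq_mul, mul_assoc, Units.eq_inv_mul_iff_mul_eq, hu, ha2]
      rw [← mul_assoc, this]
    · have : σ y * (u⁻¹ : (End k V)ˣ) = (u⁻¹ : (End k V)ˣ) * σ (φ y) := by
        rw [Units.mul_inv_eq_iff_eq_mul, mul_assoc, Units.eq_inv_mul_iff_mul_eq, hu, ha1]
      rw [← mul_assoc, this, mul_assoc, ← hbσ, mul_assoc])
  have hba : b = μ • a := by
    rw [Units.inv_mul_eq_iff_eq_mul, hu] at hμ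
    rw [hμ]; simp
  have hSch : ∀ T : End k V, (∀ y, σ y * T = T * σ y) → ∃ c : k, T = c • (1 : End k V) := by
    intro T hT
    apply scalar_of_commute _ hS'
    rintro T' (rfl | ⟨y, rfl⟩)
    · rw [hba, smul_mul_assoc, mul_smul_comm, ha, Finset.sum_mul, Finset.mul_sum]
      congr 1
      exact Finset.sum_congr rfl fun g _ => hT _
    · exact hT y
  -- Burnside
  have hspan : ∀ T : End k V, T ∈ Submodule.span k (Set.range σ) := by
    intro T
    have h1 : ∑ g, avg σ (T * σ g⁻¹) * σ g =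
        (Nat.card Z : k) • (Fintype.card P : k) • T := by
      simp only [avg_apply, Finset.sum_mul]
      rw [Finset.sum_comm, ← hsumZ]
      refine Finset.sum_congr rfl fun y _ => ?_
      have h2 : ∑ g, σ y * (T * σ g⁻¹) * σ y⁻¹ * σ g = σ y * T * avg σ (σ y⁻¹) := by
        rw [avg_apply, Finset.mul_sum]
        refine Fintype.sum_equiv (Equiv.inv P) _ _ fun g => ?_
        simp [mul_assoc]
      rw [h2]
      split_ifs with hy
      · rw [hA1 _ (Z.inv_mem hy), mul_smul_comm, hZc y hy, mul_assoc, ← map_mul]; simp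
      · rw [hA0 _ fun hc => hy (by simpa using hc), mul_zero]
    have h2 : (Nat.card Z : k) • (Fintype.card P : k) • T ∈ Submodule.span k (Set.range σ) := by
      rw [← h1]
      refine Submodule.sum_mem _ fun g _ => ?_
      obtain ⟨c, hc⟩ := hSch _ (avg_comm σ (T * σ g⁻¹))
      rw [hc, smul_mul_assoc, one_mul]
      exact Submodule.smul_mem _ _ (Submodule.subset_span ⟨g, rfl⟩)
    rwa [Submodule.smul_mem_iff _ hZk, Submodule.smul_mem_iff _ hP'] at h2
  have hout : ∀ g g' : P, (g : P ⧸ Z) = g' → ∃ c : k, σ g' = c • σ g := by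
    intro g g' e
    obtain ⟨c, hc⟩ := hZ1 _ (QuotientGroup.eq.1 e)
    refine ⟨c, ?_⟩
    have : g' = g * (g⁻¹ * g') := by group
    rw [this, map_mul, hc]; simp
  let _ := Fintype.ofFinite (P ⧸ Z)
  have hli : LinearIndependent k fun q : P ⧸ Z => σ q.out := by
    rw [Fintype.linearIndependent_iff]
    intro c hc q₀
    have h1 := congrArg (fun T => avg σ (σ (q₀.out)⁻¹ * T)) hc
    simp only [Finset.mul_sum, mul_smul_comm, map_sum, map_smul, mul_zero, map_zero,
      ← map_mul] at h1
    rw [Finset.sum_eq_single q₀] at h1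
    · rw [inv_mul_cancel, hA1 1 Z.one_mem, map_one, smul_smul] at h1
      rcases smul_eq_zero.1 h1 with h2 | h2
      · exact (mul_eq_zero.1 h2).resolve_right hP'
      · exact absurd h2 one_ne_zero
    · intro q _ hq
      rw [hA0, smul_zero]
      intro hc
      apply hq
      have := QuotientGroup.eq.2 hc
      simpa using this.symm
    · simp
  have hdim : finrank k V ^ 2 = Z.index := by
    have h1 : Submodule.span k (Set.range fun q : P ⧸ Z => σ q.out) = ⊤ := by
      rw [eq_top_iff]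
      intro T _
      refine Submodule.span_le.2 ?_ (hspan T)
      rintro _ ⟨g, rfl⟩
      obtain ⟨c, hc⟩ := hout (g : P ⧸ Z).out g (by simp)
      rw [hc]
      exact Submodule.smul_mem _ _ (Submodule.subset_span ⟨_, rfl⟩)
    have h2 := finrank_span_eq_card hli
    rw [h1, finrank_top, finrank_linearMap] at h2
    rw [sq, h2, Subgroup.index, Nat.card_eq_fintype_card]
  -- orbits
  let ψ : MulAut (P ⧸ Z) := QuotientGroup.congr Z Z φ hZmap
  have hψ : ∀ (i : ℕ) (g : P), (ψ.toEquiv ^ i : Equiv.Perm (P ⧸ Z)) (g : P ⧸ Z) =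
      (((φ ^ i) g : P) : P ⧸ Z) := by
    intro i
    induction i with
    | zero => intro g; rfl
    | succ i ih =>
      intro g
      rw [pow_succ', pow_succ', Equiv.Perm.mul_apply, ih]; rfl
  obtain ⟨R, hR1, hR2⟩ := exists_orbit_reps (ψ.toEquiv : Equiv.Perm (P ⧸ Z)) 1 (map_one ψ) h (by
    intro q hq i hi1 hi2 e
    obtain ⟨g, rfl⟩ := QuotientGroup.mk_surjective q
    rw [hψ] at e
    apply hq
    rw [QuotientGroup.eq_one_iff]
    apply hZ4 i hi1 hi2
    have := QuotientGroup.eq.1 e.symm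
    have h2 := hZn.conj_mem _ this g
    simpa [mul_assoc] using h2)
  let N : End k V →ₗ[k] End k V := ∑ i ∈ Finset.range h, LinearMap.mulLeftRight k (b ^ i, b' ^ i)
  have hN : ∀ T, N T = ∑ i ∈ Finset.range h, b ^ i * T * b' ^ i := fun T => by
    simp [N, LinearMap.sum_apply]
  have hN1 : ∀ T, b * T = T * b → N T = (h : k) • T := by
    intro T hT
    have : ∀ i : ℕ, b ^ i * T * b' ^ i = T := by
      intro i
      induction i with
      | zero => simp
      | succ i ih =>
        rw [pow_succ, pow_succ', mul_assoc (b ^ i), hT, ← mul_assoc (b ^ i), mul_assoc _ b,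
          ← mul_assoc b, hbb', one_mul, ih]
    rw [hN]; simp [this, Nat.cast_smul_eq_nsmul]
  have hN2 : ∀ T, N (b * T * b') = N T := by
    intro T
    have h1 : b' ^ h = 1 := by rw [hb', ← pow_mul, mul_comm, pow_mul, hb, one_pow]
    have h2 := Finset.sum_range_succ (fun i => b ^ i * T * b' ^ i) h
    rw [Finset.sum_range_succ'] at h2
    simp only [pow_zero, hb, h1, add_left_inj] at h2
    rw [hN, hN, ← h2]
    refine Finset.sum_congr rfl fun i _ => ?_
    rw [pow_succ, pow_succ']; simp only [mul_assoc]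
  have hN3 : ∀ (i : ℕ) (g : P), N (σ ((φ ^ i) g)) = N (σ g) := by
    intro i g
    induction i with
    | zero => rfl
    | succ i ih => rw [pow_succ', MulAut.mul_apply, ← hconj, hN2, ih]
  let w : Finset (End k V) := (insert 1 R).image fun q : P ⧸ Z => N (σ q.out)
  have hw : ∀ T, b * T = T * b → T ∈ Submodule.span k (w : Set (End k V)) := by
    intro T hT
    have h1 : N T ∈ Submodule.span k (w : Set (End k V)) := by
      refine (Submodule.span_le (p := (Submodule.span k (w : Set (End k V))).comap N)).2 ?_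
        (hspan T)
      rintro _ ⟨g, rfl⟩
      rw [SetLike.mem_coe, Submodule.mem_comap]
      rcases hR1 (g : P ⧸ Z) with h2 | ⟨r, hr, i, h2⟩
      · obtain ⟨c, hc⟩ := hout (1 : P ⧸ Z).out g (by simp [h2])
        rw [hc, map_smul]
        refine Submodule.smul_mem _ _ (Submodule.subset_span ?_)
        exact Finset.mem_coe.2 (Finset.mem_image_of_mem _ (Finset.mem_insert_self _ _))
      · obtain ⟨c, hc⟩ := hout ((φ ^ i) r.out) g (by rw [← hψ, h2]; simp)
        rw [hc, map_smul, hN3]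
        refine Submodule.smul_mem _ _ (Submodule.subset_span ?_)
        exact Finset.mem_coe.2 (Finset.mem_image_of_mem _ (Finset.mem_insert_of_mem hr))
    rwa [hN1 T hT, Submodule.smul_mem_iff _ hk] at h1
  obtain ⟨e, d, hd⟩ := exists_eigenbasis b hk hb
  have : NeZero (h : k) := ⟨hk⟩
  obtain ⟨ζ, hζ⟩ := HasEnoughRootsOfUnity.exists_primitiveRoot k h
  have hdm : ∀ i, d i ∈ Polynomial.nthRootsFinset h (1 : k) := fun i =>
    (Polynomial.mem_nthRootsFinset (by omega) _).2 (eigen_pow_eq_one b hb (e.ne_zero i) (hd i))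
  have hli2 : LinearIndependent k
      fun p : {p : Fin (finrank k V) × Fin (finrank k V) // d p.1 = d p.2} => e.end p.1 :=
    e.end.linearIndependent.comp _ Subtype.val_injective
  have hle := linearIndependent_le_span_aux' _ hli2 (w : Set (End k V)) (by
    rintro _ ⟨⟨⟨i, j⟩, hp⟩, rfl⟩
    apply hw
    apply e.ext
    intro l
    simp only [End.mul_apply, hd, map_smul, Basis.end_apply_apply]
    split_ifs with hl
    · subst hl; rw [hd]; exact congrArg (· • e i) hp
    · simp)
  rw [card_pairs_eq d _ hdm] at hle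
  have hwc : Fintype.card (w : Set (End k V)) ≤ R.card + 1 := by
    simp only [Finset.coe_sort_coe, Fintype.card_coe]
    exact Finset.card_image_le.trans (Finset.card_insert_le _ _)
  have hcop' : Nat.Coprime h (finrank k V) := by
    refine Nat.Coprime.coprime_dvd_right ?_ hcop
    refine Dvd.dvd.trans (Dvd.intro _ (sq _).symm) ?_
    rw [hdim]; exact Z.index_dvd_card
  have harith := arith_multiplicities (Polynomial.nthRootsFinset h (1 : k))
    (fun μ => (Finset.univ.filter fun i => d i = μ).card) h (finrank k V)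
    hζ.card_nthRootsFinset hh
    (by
      rw [← Finset.card_eq_sum_card_fiberwise (f := d) (fun i _ => hdm i)]; simp) hcop'
    (by
      have h1 : Nat.card (P ⧸ Z) = finrank k V ^ 2 := by rw [hdim]; rfl
      have h2 := Nat.mul_le_mul_left h (hle.trans hwc)
      rw [h1] at hR2
      nlinarith)
  refine ⟨hdim, harith.1, fun hfix => harith.2 1
    ((Polynomial.mem_nthRootsFinset (by omega) _).2 (one_pow _)) ?_⟩
  rw [Finset.card_eq_zero, Finset.filter_eq_empty_iff]
  intro i _ hi
  exact e.ne_zero i (hfix _ (by rw [hd, hi, one_smul]))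

end H46
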